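import Mathlib
import Groth.Prelude.Def_W4c1stackycurvesGalP1

/-!
# Galois stable sets of at most three points of the projective line
-/

set_option autoImplicit false

universe u

open Matrix W4c1stackycurves

namespace Groth.Agent.P1Three

variable {k K : Type u} [Field k] [Field K] [Algebra k K]

/-- Points of the line. -/
abbrev Pt (K : Type u) [Field K] : Type u := Projectivization K (Fin 2 → K)

/-- The action of a matrix on points. -/
noncomputable def act (g : GeneralLinearGroup (Fin 2) K) (x : Pt K) : Pt K := GeneralLinearGroup.toLin g • x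

theorem act_mk (g : GeneralLinearGroup (Fin 2) K) (v : Fin 2 → K) (hv : v ≠ 0) :
    ∃ h, act g (Projectivization.mk K v hv) = Projectivization.mk K ((g : Matrix (Fin 2) (Fin 2) K) *ᵥ v) h :=
  ⟨_, Projectivization.smul_mk (GeneralLinearGroup.toLin g) hv⟩

theorem galP_mk (σ : K ≃ₐ[k] K) (v : Fin 2 → K) (hv : v ≠ 0) :
    ∃ h, galP σ (Projectivization.mk K v hv) = Projectivization.mk K (fun i => σ (v i)) h :=
  ⟨_, Projectivization.map_mk _ _ v hv⟩

theorem galP_act (σ : K ≃ₐ[k] K) (g : GeneralLinearGroup (Fin 2) K) (x : Pt K) :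
    galP σ (act g x) = act (GeneralLinearGroup.map (σ : K →+* K) g) (galP σ x) := by
  induction x using Projectivization.ind with
  | h v hv =>
    obtain ⟨h1, e1⟩ := act_mk g v hv
    obtain ⟨h2, e2⟩ := galP_mk σ _ h1
    obtain ⟨h3, e3⟩ := galP_mk σ v hv
    obtain ⟨h4, e4⟩ := act_mk (GeneralLinearGroup.map (σ : K →+* K) g) _ h3
    rw [e1, e2, e3, e4, Projectivization.mk_eq_mk_iff']
    refine ⟨1, ?_⟩
    rw [one_smul]
    funext i
    exact (RingHom.map_mulVec (σ : K →+* K) (g : Matrix (Fin 2) (Fin 2) K) v i).symm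

theorem galP_galP (σ : K ≃ₐ[k] K) (x : Pt K) : galP σ (galP σ.symm x) = x := by
  induction x using Projectivization.ind with
  | h v hv =>
    obtain ⟨h1, e1⟩ := galP_mk σ.symm v hv
    obtain ⟨h2, e2⟩ := galP_mk σ _ h1
    rw [e1, e2, Projectivization.mk_eq_mk_iff']
    exact ⟨1, by funext i; simp⟩

/-- A frame through three distinct points. -/
theorem exists_frame (x : Fin 3 → Pt K) (hx : Function.Injective x) :
    ∃ U : Matrix (Fin 2) (Fin 2) K, U.det ≠ 0 ∧ (∃ h, Projectivization.mk K (U *ᵥ ![1, 0]) h = x 0) ∧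
      (∃ h, Projectivization.mk K (U *ᵥ ![0, 1]) h = x 1) ∧ ∃ h, Projectivization.mk K (U *ᵥ ![1, 1]) h = x 2 := by
  set u := (x 0).rep
  set v := (x 1).rep
  set w := (x 2).rep
  have hne : ∀ i j : Fin 3, i ≠ j → ∀ c : K, c • (x j).rep ≠ (x i).rep := fun i j hij c hc => hij (hx (by
    rw [← (x i).mk_rep, ← (x j).mk_rep, Projectivization.mk_eq_mk_iff']
    exact ⟨c, hc⟩))
  have hli : LinearIndependent K ![u, v] := by
    rw [LinearIndependent.pair_iff' (Projectivization.rep_nonzero _)]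
    exact fun c => hne 1 0 (by decide) c
  let B := basisOfLinearIndependentOfCardEqFinrank hli (by simp)
  have hw : w = B.repr w 0 • u + B.repr w 1 • v := by
    conv_lhs => rw [← B.sum_repr w]
    simp [Fin.sum_univ_two, B]
  have ha : B.repr w 0 ≠ 0 := fun h0 => hne 2 1 (by decide) (B.repr w 1) (by
    show B.repr w 1 • v = w
    rw [h0, zero_smul, zero_add] at hw
    exact hw.symm)
  have hb : B.repr w 1 ≠ 0 := fun h0 => hne 2 0 (by decide) (B.repr w 0) (by
    show B.repr w 0 • u = w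
    rw [h0, zero_smul, add_zero] at hw
    exact hw.symm)
  set a := B.repr w 0
  set b := B.repr w 1
  let U : Matrix (Fin 2) (Fin 2) K := Matrix.of fun i j => (![a • u, b • v] j) i
  have h10 : U *ᵥ ![1, 0] = a • u := by funext i; simp [U, mulVec, dotProduct, Fin.sum_univ_two]
  have h01 : U *ᵥ ![0, 1] = b • v := by funext i; simp [U, mulVec, dotProduct, Fin.sum_univ_two]
  have h11 : U *ᵥ ![1, 1] = w := by
    rw [hw]; funext i; simp [U, mulVec, dotProduct, Fin.sum_univ_two]
  refine ⟨U, ?_, ?_, ?_, ?_⟩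
  · intro h0
    obtain ⟨c, hc0, hc⟩ := exists_mulVec_eq_zero_iff.2 h0
    have h1 : (c 0 * a) • u + (c 1 * b) • v = 0 := by
      rw [← hc]; funext i; simp [U, mulVec, dotProduct, Fin.sum_univ_two]; ring
    have h2 := LinearIndependent.pair_iff.1 hli _ _ h1
    refine hc0 (funext fun i => ?_)
    fin_cases i
    · exact (mul_eq_zero.1 h2.1).resolve_right ha
    · exact (mul_eq_zero.1 h2.2).resolve_right hb
  · refine ⟨by rw [h10]; exact smul_ne_zero ha (Projectivization.rep_nonzero _), ?_⟩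
    conv_rhs => rw [← (x 0).mk_rep]
    exact (Projectivization.mk_eq_mk_iff' K _ _ _ _).2 ⟨a, h10.symm⟩
  · refine ⟨by rw [h01]; exact smul_ne_zero hb (Projectivization.rep_nonzero _), ?_⟩
    conv_rhs => rw [← (x 1).mk_rep]
    exact (Projectivization.mk_eq_mk_iff' K _ _ _ _).2 ⟨b, h01.symm⟩
  · refine ⟨by rw [h11]; exact Projectivization.rep_nonzero _, ?_⟩
    conv_rhs => rw [← (x 2).mk_rep]
    exact (Projectivization.mk_eq_mk_iff' K _ _ _ _).2 ⟨1, by rw [one_smul, h11]⟩

/-- Three distinct points go to three distinct points by a transformation, unique up to scalars. -/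
theorem exists_unique_act (x y : Fin 3 → Pt K) (hx : Function.Injective x) (hy : Function.Injective y) :
    ∃ g : GeneralLinearGroup (Fin 2) K, (∀ i, act g (x i) = y i) ∧
      ∀ g' : GeneralLinearGroup (Fin 2) K, (∀ i, act g' (x i) = y i) →
        ∃ c : K, (g' : Matrix (Fin 2) (Fin 2) K) = c • (g : Matrix (Fin 2) (Fin 2) K) := by
  obtain ⟨U, hU, ⟨u0, hu0⟩, ⟨u1, hu1⟩, ⟨u2, hu2⟩⟩ := exists_frame x hx
  obtain ⟨W, hW, ⟨w0, hw0⟩, ⟨w1, hw1⟩, ⟨w2, hw2⟩⟩ := exists_frame y hy
  have hUu : IsUnit U.det := IsUnit.mk0 _ hU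
  let g : GeneralLinearGroup (Fin 2) K := GeneralLinearGroup.mkOfDetNeZero (W * U⁻¹)
    (by rw [det_mul, det_nonsing_inv, Ring.inverse_eq_inv']; exact mul_ne_zero hW (inv_ne_zero hU))
  have hg : ∀ (v : Fin 2 → K), (g : Matrix (Fin 2) (Fin 2) K) *ᵥ (U *ᵥ v) = W *ᵥ v := fun v => by
    show (W * U⁻¹) *ᵥ (U *ᵥ v) = _
    rw [mulVec_mulVec, Matrix.mul_assoc, nonsing_inv_mul U hUu, Matrix.mul_one]
  refine ⟨g, fun i => ?_, fun g' hg' => ?_⟩
  · fin_cases i <;> simp only [Fin.zero_eta, Fin.mk_one, Fin.reduceFinMk]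
    · rw [← hu0, ← hw0]; obtain ⟨h, e⟩ := act_mk g _ u0; rw [e]; simp only [hg]
    · rw [← hu1, ← hw1]; obtain ⟨h, e⟩ := act_mk g _ u1; rw [e]; simp only [hg]
    · rw [← hu2, ← hw2]; obtain ⟨h, e⟩ := act_mk g _ u2; rw [e]; simp only [hg]
  · have key : ∀ (i : Fin 3) (v : Fin 2 → K) (hv : U *ᵥ v ≠ 0) (hv' : W *ᵥ v ≠ 0),
        Projectivization.mk K _ hv = x i → Projectivization.mk K _ hv' = y i →
          ∃ c : K, (g' : Matrix (Fin 2) (Fin 2) K) *ᵥ (U *ᵥ v) = c • (W *ᵥ v) := by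
      intro i v hv hv' e e'
      have h1 := hg' i
      obtain ⟨h, e2⟩ := act_mk g' _ hv
      rw [← e, ← e', e2, Projectivization.mk_eq_mk_iff'] at h1
      obtain ⟨c, hc⟩ := h1
      exact ⟨c, hc.symm⟩
    obtain ⟨α, hα⟩ := key 0 _ u0 w0 hu0 hw0
    obtain ⟨β, hβ⟩ := key 1 _ u1 w1 hu1 hw1
    obtain ⟨γ, hγ⟩ := key 2 _ u2 w2 hu2 hw2
    have h11 : (![1, 1] : Fin 2 → K) = ![1, 0] + ![0, 1] := by funext i; fin_cases i <;> simp
    have hW0 : W *ᵥ ((α - γ) • ![1, 0] + (β - γ) • ![0, 1]) = 0 := by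
      rw [mulVec_add, mulVec_smul, mulVec_smul, sub_smul, sub_smul, ← hα, ← hβ]
      rw [h11, mulVec_add, mulVec_add, mulVec_add, smul_add] at hγ
      rw [sub_add_sub_comm, hγ, sub_self]
    have hz : (α - γ) • ![(1 : K), 0] + (β - γ) • ![(0 : K), 1] = 0 := by
      by_contra hne
      exact hW (exists_mulVec_eq_zero_iff.1 ⟨_, hne, hW0⟩)
    have hαγ : α = γ := sub_eq_zero.1 (by simpa using congrFun hz 0)
    have hβγ : β = γ := sub_eq_zero.1 (by simpa using congrFun hz 1)
    refine ⟨γ, ?_⟩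
    have hmul : (g' : Matrix (Fin 2) (Fin 2) K) * U = γ • W := by
      refine Matrix.ext_of_mulVec_single fun i => ?_
      rw [← mulVec_mulVec, smul_mulVec]
      have hs : (Pi.single i (1 : K) : Fin 2 → K) = if i = 0 then ![1, 0] else ![0, 1] := by
        funext j; fin_cases i <;> fin_cases j <;> simp
      rw [hs]
      fin_cases i
      · simpa [hαγ] using hα
      · simpa [hβγ] using hβ
    show (g' : Matrix (Fin 2) (Fin 2) K) = γ • (W * U⁻¹)
    rw [← Matrix.smul_mul, ← hmul, Matrix.mul_assoc, mul_nonsing_inv U hUu, Matrix.mul_one]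

/-- The case of three points. -/
theorem exists_three [FiniteDimensional k K] [IsGalois k K] (S : Set (Pt K)) (h3 : S.ncard = 3)
    (hS : ∀ (σ : K ≃ₐ[k] K), ∀ x ∈ S, galP σ x ∈ S) (f : Pt K → Pt K) (hf : Set.InjOn f S)
    (hfe : ∀ (σ : K ≃ₐ[k] K), ∀ x ∈ S, f (galP σ x) = galP σ (f x)) :
    ∃ g : GeneralLinearGroup (Fin 2) k, ∀ x ∈ S, act (GeneralLinearGroup.map (algebraMap k K) g) x = f x := by
  classical
  obtain ⟨a, b, c, hab, hac, hbc, rfl⟩ := Set.ncard_eq_three.1 h3
  let x : Fin 3 → Pt K := ![a, b, c]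
  have hxS : ∀ i, x i ∈ ({a, b, c} : Set (Pt K)) := fun i => by fin_cases i <;> simp [x]
  have hx : Function.Injective x := fun i j hij => by
    fin_cases i <;> fin_cases j <;> simp_all [x]
  obtain ⟨g, hg, huniq⟩ := exists_unique_act x (fun i => f (x i)) hx fun i j h => hx (hf (hxS i) (hxS j) h)
  obtain ⟨i₀, j₀, hij⟩ : ∃ i j, (g : Matrix (Fin 2) (Fin 2) K) i j ≠ 0 := by
    by_contra hall
    push Not at hall
    exact g.det_ne_zero (by rw [det_fin_two, hall, hall, hall, hall]; ring)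
  set t := (g : Matrix (Fin 2) (Fin 2) K) i₀ j₀
  have hfix : ∀ (σ : K ≃ₐ[k] K) i j, σ (t⁻¹ * (g : Matrix (Fin 2) (Fin 2) K) i j) =
      t⁻¹ * (g : Matrix (Fin 2) (Fin 2) K) i j := by
    intro σ i j
    have hS' : ∀ y ∈ ({a, b, c} : Set (Pt K)), act g y = f y := by
      intro y hy
      rcases hy with rfl | rfl | rfl
      exacts [hg 0, hg 1, hg 2]
    obtain ⟨d, hd⟩ := huniq (GeneralLinearGroup.map (σ : K →+* K) g) fun l => by
      have h1 := hS σ.symm (x l) (hxS l)
      conv_lhs => rw [← galP_galP σ (x l)]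
      rw [← galP_act, hS' _ h1, ← hfe σ _ h1, galP_galP]
    have e : ∀ i j, σ ((g : Matrix (Fin 2) (Fin 2) K) i j) = d * (g : Matrix (Fin 2) (Fin 2) K) i j :=
      fun i j => by
        have := congrFun (congrFun hd i) j
        simpa using this
    have hd0 : d ≠ 0 := fun h0 => hij (σ.injective (by rw [map_zero, e, h0, zero_mul]))
    rw [map_mul, map_inv₀, show σ t = d * t from e i₀ j₀, e i j]
    field_simp
  choose m hm using fun i j => (IsGalois.mem_range_algebraMap_iff_fixed _).2 fun σ => hfix σ i j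
  let M : Matrix (Fin 2) (Fin 2) k := Matrix.of m
  have hM : M.map (algebraMap k K) = t⁻¹ • (g : Matrix (Fin 2) (Fin 2) K) := by
    ext i j
    simp [M, hm]
  have hdet : M.det ≠ 0 := fun h0 => by
    have h1 := RingHom.map_det (algebraMap k K) M
    rw [h0, map_zero, RingHom.mapMatrix_apply, hM, det_smul] at h1
    exact mul_ne_zero (pow_ne_zero _ (inv_ne_zero hij)) g.det_ne_zero h1.symm
  refine ⟨GeneralLinearGroup.mkOfDetNeZero M hdet, fun y hy => ?_⟩
  have hval : ((GeneralLinearGroup.map (algebraMap k K) (GeneralLinearGroup.mkOfDetNeZero M hdet) :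
      GeneralLinearGroup (Fin 2) K) : Matrix (Fin 2) (Fin 2) K) = t⁻¹ • (g : Matrix (Fin 2) (Fin 2) K) := hM
  have hy' : act g y = f y := by
    rcases hy with rfl | rfl | rfl
    exacts [hg 0, hg 1, hg 2]
  rw [← hy']
  induction y using Projectivization.ind with
  | h v hv =>
    obtain ⟨h1, e1⟩ := act_mk (GeneralLinearGroup.map (algebraMap k K) (GeneralLinearGroup.mkOfDetNeZero M hdet)) v hv
    obtain ⟨h2, e2⟩ := act_mk g v hv
    rw [e1, e2, Projectivization.mk_eq_mk_iff']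
    exact ⟨t⁻¹, by rw [hval, smul_mulVec]⟩

/-- A rational point outside a set of at most two points. -/
theorem exists_rational (T : Set (Pt K)) (hT : T.Finite) (h3 : T.ncard < 3) :
    ∃ r ∉ T, ∀ σ : K ≃ₐ[k] K, galP σ r = r := by
  classical
  have hne : ∀ i : Fin 3, (![![(1 : K), 0], ![0, 1], ![1, 1]] i : Fin 2 → K) ≠ 0 := fun i h => by
    fin_cases i
    · simpa using congrFun h 0
    · simpa using congrFun h 1
    · simpa using congrFun h 0
  let r : Fin 3 → Pt K := fun i => Projectivization.mk K _ (hne i)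
  have hr : Function.Injective r := fun i j h => by
    obtain ⟨c, hc⟩ := (Projectivization.mk_eq_mk_iff' K _ _ _ _).1 h
    have h0 := congrFun hc 0
    have h1 := congrFun hc 1
    fin_cases i <;> fin_cases j <;> simp at h0 h1 ⊢ <;> simp_all
  obtain ⟨i, hi⟩ : ∃ i, r i ∉ T := by
    by_contra hall
    push Not at hall
    have := Set.ncard_le_ncard (show Set.range r ⊆ T from Set.range_subset_iff.2 hall) hT
    rw [Set.ncard_range_of_injective hr, Nat.card_fin] at this
    omega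
  refine ⟨r i, hi, fun σ => ?_⟩
  obtain ⟨h, e⟩ := galP_mk σ _ (hne i)
  show galP σ (Projectivization.mk K _ (hne i)) = Projectivization.mk K _ (hne i)
  rw [e, Projectivization.mk_eq_mk_iff']
  exact ⟨1, by funext j; fin_cases i <;> fin_cases j <;> simp⟩

/-- Galois equivariant maps of at most three points come from linear transformations over the ground field. -/
theorem exists_glTwo [FiniteDimensional k K] [IsGalois k K] : ∀ (n : ℕ) (S : Set (Pt K)), S.Finite → S.ncard + n = 3 →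
    (∀ (σ : K ≃ₐ[k] K), ∀ x ∈ S, galP σ x ∈ S) → ∀ f : Pt K → Pt K, Set.InjOn f S →
    (∀ (σ : K ≃ₐ[k] K), ∀ x ∈ S, f (galP σ x) = galP σ (f x)) →
    ∃ g : GeneralLinearGroup (Fin 2) k, ∀ x ∈ S, act (GeneralLinearGroup.map (algebraMap k K) g) x = f x := by
  classical
  intro n
  induction n with
  | zero => exact fun S _ h3 hS f hf hfe => exists_three S (by simpa using h3) hS f hf hfe
  | succ n ih =>
    intro S hfin h3 hS f hf hfe
    obtain ⟨r, hr, hrσ⟩ := exists_rational (k := k) S hfin (by omega)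
    obtain ⟨r', hr', hrσ'⟩ := exists_rational (k := k) (f '' S) (hfin.image f)
      (by rw [hf.ncard_image]; omega)
    let f' := Function.update f r r'
    have hf'S : ∀ x ∈ S, f' x = f x := fun x hx => Function.update_of_ne (fun h : x = r => hr (h ▸ hx)) _ _
    have hf'r : f' r = r' := Function.update_self ..
    obtain ⟨g, hg⟩ := ih (insert r S) (hfin.insert r) (by rw [Set.ncard_insert_of_notMem hr hfin]; omega)
      (fun σ x hx => by
        rcases hx with rfl | hx
        · exact Or.inl (hrσ σ)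
        · exact Or.inr (hS σ x hx))
      f' ((Set.injOn_insert hr).2 ⟨hf.congr fun x hx => (hf'S x hx).symm, by
        rintro ⟨x, hx, hxe⟩
        rw [hf'S x hx, hf'r] at hxe
        exact hr' ⟨x, hx, hxe⟩⟩)
      (fun σ x hx => by
        rcases hx with rfl | hx
        · rw [hrσ, hf'r, hrσ']
        · rw [hf'S x hx, hf'S _ (hS σ x hx), hfe σ x hx])
    exact ⟨g, fun x hx => (hg x (Or.inr hx)).trans (hf'S x hx)⟩

/-- The statement for a bijection of sets. -/
theorem exists_image_eq [FiniteDimensional k K] [IsGalois k K] (S S' : Set (Pt K)) (hfin : S.Finite)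
    (h3 : S.ncard ≤ 3) (hS : ∀ (σ : K ≃ₐ[k] K) (x : Pt K), x ∈ S → galP σ x ∈ S) (b : S ≃ S')
    (hb : ∀ (σ : K ≃ₐ[k] K) (x : S), (b ⟨galP σ x.1, hS σ x.1 x.2⟩ : Pt K) = galP σ (b x).1) :
    ∃ g : GeneralLinearGroup (Fin 2) k,
      (fun x => GeneralLinearGroup.toLin (GeneralLinearGroup.map (algebraMap k K) g) • x) '' S = S' := by
  classical
  let f : Pt K → Pt K := fun x => if h : x ∈ S then (b ⟨x, h⟩ : Pt K) else x
  have hfS : ∀ (x) (h : x ∈ S), f x = (b ⟨x, h⟩ : Pt K) := fun x h => dif_pos h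
  obtain ⟨g, hg⟩ := exists_glTwo (3 - S.ncard) S hfin (by omega) hS f
    (fun x hx y hy h => by
      rw [hfS x hx, hfS y hy] at h
      exact congrArg Subtype.val (b.injective (Subtype.ext h)))
    fun σ x hx => by rw [hfS x hx, hfS _ (hS σ x hx)]; exact hb σ ⟨x, hx⟩
  refine ⟨g, Set.Subset.antisymm ?_ fun y hy => ?_⟩
  · rintro _ ⟨x, hx, rfl⟩
    show act _ x ∈ S'
    rw [hg x hx, hfS x hx]
    exact (b ⟨x, hx⟩).2
  · refine ⟨(b.symm ⟨y, hy⟩).1, (b.symm ⟨y, hy⟩).2, ?_⟩
    show act _ _ = y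
    rw [hg _ (b.symm ⟨y, hy⟩).2, hfS _ (b.symm ⟨y, hy⟩).2]
    simp

end Groth.Agent.P1Three
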